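import Groth.Agent.Misc15.MTType.Type
import Groth.Agent.Misc15.MTFin.Finite
import Groth.Agent.Misc15.MTSub.UnivMT
import Groth.Prelude.Def_RedSub

/-!
Subgroups of multiplicative type of a given finite geometric type are parametrised by an affine scheme.
-/

set_option autoImplicit false
set_option linter.style.haveILetI false
universe u

open CategoryTheory CategoryTheory.Limits MonoidalCategory CartesianMonoidalCategory MonObj GrpObj AlgebraicGeometry
open Groth.Reductive Groth.Reductive.MTInt Groth.Misc15.MTSub Groth.Misc15.MTFin Groth.Reductive.RedRank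
open Groth.Misc15.MTTorus

noncomputable section

namespace Groth.Misc15.MTType

variable {S : Scheme.{u}}

/-- The type over a geometric point factoring through a point of that type. -/
theorem HasType.bc_geom {H : Over S} [GrpObj H] {W : Scheme.{u}} (f : W ⟶ S) (w : W) {i : Idx.{u}}
    (h : HasType H i (f.base w)) :
    Nonempty (Grp.mk (Red.bc (Red.geomPt w ≫ f) H) ≅ Grp.mk (Red.DS _ i.Λ)) := by
  obtain ⟨ψ, hψ, -⟩ := exists_geomPt_hom f w
  obtain ⟨a⟩ := h
  obtain ⟨a'⟩ := split_bc ψ a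
  exact ⟨(bcTwo ψ (Red.geomPt (f.base w)) _ hψ H).symm ≪≫ a'⟩

/-- With finite geometric types a group of multiplicative type is finite. -/
theorem isFinite_of_types {H : Over S} [GrpObj H] (hH : SGA3x.IsMultTypeFT H)
    (hfin : ∀ (s : S) (i : Idx.{u}), HasType H i s → Finite i.Λ) : IsFinite H.hom := by
  have hH' := hH
  obtain ⟨S', f, hflat, hsurj, hqc, hloc⟩ := hH
  haveI := hflat
  haveI := hsurj
  refine Groth.Reductive.of_fpqc_locally @IsFinite Groth.EtaleBase.descendsAlong_isFinite _ f inferInstance hqc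
    fun x => ?_
  obtain ⟨U, hxU, M, _, hM, ⟨e⟩⟩ := hloc x
  refine ⟨U, hxU, ?_⟩
  obtain ⟨k, hk⟩ := exists_hasType hH' ((U.ι ≫ f).base ⟨x, hxU⟩)
  obtain ⟨e'⟩ := split_bc (Red.geomPt (⟨x, hxU⟩ : (U : Scheme.{u}))) e
  obtain ⟨b⟩ := nonempty_addEquiv_of_geom hk (U.ι ≫ f) ⟨x, hxU⟩ rfl e'
  haveI := hfin _ k hk
  haveI : Finite M := Finite.of_equiv k.Λ b.symm.toEquiv
  haveI := Groth.Reductive.MTCrit.isFinite_DS (S := (U : Scheme.{u})) M
  show IsFinite (Red.bc (U.ι ≫ f) H).hom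
  let w : Red.bc (U.ι ≫ f) H ≅ Red.DS (U : Scheme.{u}) M := (Grp.forget _).mapIso e
  haveI : IsIso w.hom.left := inferInstanceAs (IsIso ((Over.forget _).map w.hom))
  rw [← Over.w w.hom]
  infer_instance

/-- Finite fibres have finite type. -/
theorem finite_of_hasType {H : Over S} [GrpObj H] (s : S) {i : Idx.{u}} (h : HasType H i s)
    (hf : IsFinite (H.hom.fiberToSpecResidueField s)) : Finite i.Λ := by
  obtain ⟨a⟩ := h
  haveI : IsFinite (pullback.snd H.hom (S.fromSpecResidueField s)) := hf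
  let π : Spec (CommRingCat.of (AlgebraicClosure (S.residueField s))) ⟶ Spec (S.residueField s) :=
    Spec.map (CommRingCat.ofHom (algebraMap (S.residueField s) (AlgebraicClosure (S.residueField s))))
  haveI : IsFinite (Red.geomFibre s H).hom := by
    show IsFinite (pullback.snd H.hom (π ≫ S.fromSpecResidueField s))
    rw [← MorphismProperty.cancel_left_of_respectsIso @IsFinite
      (pullbackLeftPullbackSndIso H.hom (S.fromSpecResidueField s) π).hom, pullbackLeftPullbackSndIso_hom_snd]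
    exact MorphismProperty.pullback_snd (P := @IsFinite) _ _ inferInstance
  let w : Red.geomFibre s H ≅ Red.DS _ i.Λ := (Grp.forget _).mapIso a
  haveI : IsIso w.inv.left := inferInstanceAs (IsIso ((Over.forget _).map w.inv))
  refine finite_of_isFinite_DS (K := AlgebraicClosure (S.residueField s)) i.Λ ?_
  rw [← Over.w w.inv]
  infer_instance

variable {G : Over S} [GrpObj G] {D : Pieces G} (X : Model D) [GrpObj X.Kun] [IsMonHom X.jun]

/-- Over a piece the universal subgroup has the type of the piece. -/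
theorem hasType_Kun (hGa : IsAffineHom G.hom) (i : Idx.{u}) {m : X.M.left} (hm : m ∈ imgOpen X i) :
    HasType X.Kun i m := by
  obtain ⟨z, hz⟩ := hm
  obtain ⟨k, hk⟩ := exists_hasType X.isMultTypeFT_Kun m
  obtain ⟨e⟩ := exists_grpIso_chart X hGa i
  obtain ⟨e'⟩ := split_bc (Red.geomPt z) e
  obtain ⟨b⟩ := nonempty_addEquiv_of_geom hk (chart X i).left z hz e'
  obtain ⟨d⟩ := exists_dsGrpIso (Spec (CommRingCat.of (AlgebraicClosure (X.M.left.residueField m)))) b.symm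
  obtain ⟨c⟩ := hk
  exact ⟨c ≪≫ d⟩

variable {H : Over S} [GrpObj H] (hH : SGA3x.IsMultTypeFT H)

/-- The subgroups of the type of `H`. -/
def typeLocus : X.M.left.Opens :=
  ⨆ (i : Idx.{u}) (_ : Finite i.Λ), imgOpen X i ⊓ X.M.hom ⁻¹ᵁ typeOpen hH i

omit [GrpObj X.Kun] [IsMonHom X.jun] in
theorem mem_typeLocus {m : X.M.left} :
    m ∈ typeLocus X hH ↔ ∃ i : Idx.{u}, Finite i.Λ ∧ m ∈ imgOpen X i ∧ HasType H i (X.M.hom m) := by
  simp only [typeLocus, TopologicalSpace.Opens.mem_iSup]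
  constructor
  · rintro ⟨i, hi, h1, h2⟩
    exact ⟨i, hi, h1, h2⟩
  · rintro ⟨i, hi, h1, h2⟩
    exact ⟨i, hi, h1, h2⟩

omit [GrpObj X.Kun] [IsMonHom X.jun] in
theorem typeLocus_inf_eq (i : Idx.{u}) (hi : Finite i.Λ) :
    typeLocus X hH ⊓ X.M.hom ⁻¹ᵁ typeOpen hH i = imgOpen X i ⊓ X.M.hom ⁻¹ᵁ typeOpen hH i := by
  ext m
  constructor
  · rintro ⟨hm, hmV⟩
    obtain ⟨k, -, ⟨y, hy⟩, hk⟩ := (mem_typeLocus X hH).1 hm
    obtain ⟨b⟩ := HasType.addEquiv (show HasType H i (X.M.hom m) from hmV) hk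
    refine ⟨⟨(D.σ ⟨i, k, b⟩).left y, ?_⟩, hmV⟩
    rw [← Scheme.Hom.comp_apply, ← Over.comp_left, chart_σ]
    exact hy
  · rintro ⟨hm, hmV⟩
    exact ⟨(mem_typeLocus X hH).2 ⟨i, hi, hm, hmV⟩, hmV⟩

theorem samePoints_iff {M : Over S} {Hu : Over M.left} (hu : Hu ⟶ Red.bc M.hom G) [Mono hu.left]
    {T : Scheme.{u}} (f : T ⟶ S) {K' : Over T} (j' : K' ⟶ Red.bc f G) [Mono j'.left] (g : T ⟶ M.left) :
    RedSub.SamePoints G f j' M hu g ↔
      ∃ φ : K'.left ≅ (Red.bc g Hu).left, φ.hom ≫ (Red.bc g Hu).hom = K'.hom ∧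
        φ.hom ≫ ((Over.pullback g).map hu).left ≫ pullback.fst (Red.bc M.hom G).hom g ≫ pullback.fst G.hom M.hom =
          j'.left ≫ pullback.fst G.hom f := by
  have main := exists_iso_iff_same_pts (hu.left ≫ pullback.fst G.hom M.hom) Hu.hom
    (j'.left ≫ pullback.fst G.hom f) K'.hom g
    (fun a b h₁ h₂ => by
      rw [← cancel_mono hu.left]
      refine pullback.hom_ext (by simpa only [Category.assoc] using h₁) ?_
      simp only [Category.assoc, show hu.left ≫ pullback.snd G.hom M.hom = Hu.hom from Over.w hu]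
      exact h₂)
    (fun a b h₁ h₂ => by
      rw [← cancel_mono j'.left]
      refine pullback.hom_ext (by simpa only [Category.assoc] using h₁) ?_
      simp only [Category.assoc, show j'.left ≫ pullback.snd G.hom f = K'.hom from Over.w j']
      exact h₂)
  have hA : ((Over.pullback g).map hu).left ≫ pullback.fst (Red.bc M.hom G).hom g ≫ pullback.fst G.hom M.hom =
      pullback.fst Hu.hom g ≫ hu.left ≫ pullback.fst G.hom M.hom := by
    rw [← Category.assoc]
    exact (congrArg (· ≫ pullback.fst G.hom M.hom) (pullback.lift_fst _ _ _)).trans (Category.assoc _ _ _)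
  constructor
  · intro h
    obtain ⟨φ, h2, h3⟩ := main.2 h
    exact ⟨φ, h2, (congrArg (φ.hom ≫ ·) hA).trans h3⟩
  · rintro ⟨φ, h2, h3⟩
    exact main.1 ⟨φ, h2, (congrArg (φ.hom ≫ ·) hA).symm.trans h3⟩

omit [GrpObj X.Kun] [IsMonHom X.jun] in
include hH in
/-- The scheme of subgroups of the finite type of `H`. -/
theorem exists_typeScheme (G : Over S) [GrpObj G] (hG : Smooth G.hom) (hGa : IsAffineHom G.hom)
    (hHf : ∀ s : S, IsFinite (H.hom.fiberToSpecResidueField s)) :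
    ∃ (M : Over S) (Hu : Over M.left) (_ : GrpObj Hu) (hu : Hu ⟶ Red.bc M.hom G) (_ : IsMonHom hu) (_ : Mono hu),
      IsAffineHom M.hom ∧ LocallyOfFinitePresentation M.hom ∧ SGA3x.IsMultTypeFT Hu ∧
      (∀ m : ↥M.left, Nonempty (Grp.mk (Red.geomFibre m Hu) ≅ Grp.mk (Red.bc (Red.geomPt m ≫ M.hom) H))) ∧
      ∀ (S' : Scheme.{u}) (f : S' ⟶ S) (H' : Over S') [GrpObj H'] (h' : H' ⟶ Red.bc f G) [IsMonHom h'] [Mono h'],
        SGA3x.IsMultTypeFT H' →
        (∀ s' : S', Nonempty (Grp.mk (Red.geomFibre s' H') ≅ Grp.mk (Red.bc (Red.geomPt s' ≫ f) H))) →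
        ∃! g : S' ⟶ M.left, g ≫ M.hom = f ∧ RedSub.SamePoints G f h' M hu g := by
  haveI := hG
  haveI := hGa
  obtain ⟨D, hOk, hPa, hPp⟩ := exists_finPieces G hGa
  have hfin : ∀ i : Idx.{u}, D.Ok i → Finite i.Λ := fun i h => (hOk i).1 h
  obtain ⟨X⟩ := exists_model_of_invariant D hGa (Groth.Misc15.MTFin.exists_invariant D hfin hPa)
  obtain ⟨iK, hj⟩ := X.exists_grpObj_Kun
  letI := iK
  haveI := hj
  haveI := X.isClosedImmersion_jun
  haveI : Mono X.jun := (Over.forget _).mono_of_mono_map (inferInstanceAs (Mono X.jun.left))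
  let O := typeLocus X hH
  let M : Over S := Over.mk (O.ι ≫ X.M.hom)
  let Hu : Over M.left := Red.bc O.ι X.Kun
  let hu : Hu ⟶ Red.bc M.hom G :=
    (Over.pullback O.ι).map X.jun ≫ (Over.pullbackComp O.ι X.M.hom).inv.app G
  haveI := Groth.Abvar.isMonHom_map (f := O.ι) X.jun
  haveI := (Groth.Abvar.isMonHom_pullbackComp O.ι X.M.hom G).1
  haveI hum : IsMonHom hu := Groth.Abvar.isMonHom_comp inferInstance inferInstance
  haveI huMono : Mono hu := inferInstance
  haveI : Mono hu.left := Over.mono_left_of_mono hu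
  haveI : LocallyOfFinitePresentation X.M.hom := lfp_M X hPp
  have haff : IsAffineHom M.hom := by
    have hV : ∀ s : S, ∃ (i : Idx.{u}) (V : S.Opens), s ∈ V ∧ IsAffineOpen V ∧ Finite i.Λ ∧ V ≤ typeOpen hH i := by
      intro s
      obtain ⟨i, hi⟩ := exists_hasType hH s
      obtain ⟨V, hV, hsV, hVr⟩ := exists_isAffineOpen_mem_and_subset
        (U := typeOpen hH i) (show s ∈ typeOpen hH i from hi)
      exact ⟨i, V, hsV, hV, finite_of_hasType s hi (hHf s), hVr⟩
    choose i V hsV hVa hifin hVi using hV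
    refine IsZariskiLocalAtTarget.of_iSup_eq_top (P := @IsAffineHom) V
      (top_unique fun s _ => TopologicalSpace.Opens.mem_iSup.mpr ⟨s, hsV s⟩) fun s => ?_
    haveI := isAffineHom_imgOpen X hfin hPa hGa (i s)
    have hQ : IsAffineOpen (imgOpen X (i s) ⊓ X.M.hom ⁻¹ᵁ V s) := by
      have h1 : IsAffineOpen ((imgOpen X (i s)).ι ⁻¹ᵁ (X.M.hom ⁻¹ᵁ V s)) :=
        (hVa s).preimage ((imgOpen X (i s)).ι ≫ X.M.hom)
      have h2 := h1.image_of_isOpenImmersion (imgOpen X (i s)).ι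
      rwa [Scheme.Hom.image_preimage_eq_opensRange_inf, Scheme.Opens.opensRange_ι] at h2
    have hp : IsAffineOpen (M.hom ⁻¹ᵁ V s) := by
      refine O.ι.isAffineOpen_iff_of_isOpenImmersion.1 ?_
      have e : O.ι ''ᵁ (M.hom ⁻¹ᵁ V s) = O ⊓ X.M.hom ⁻¹ᵁ V s :=
        (Scheme.Hom.image_preimage_eq_opensRange_inf _ (X.M.hom ⁻¹ᵁ V s)).trans (by rw [Scheme.Opens.opensRange_ι])
      have e2 : O ⊓ X.M.hom ⁻¹ᵁ V s = imgOpen X (i s) ⊓ X.M.hom ⁻¹ᵁ V s := by
        ext m
        constructor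
        · rintro ⟨hm, hmV⟩
          exact ⟨((typeLocus_inf_eq X hH (i s) (hifin s)).le ⟨hm, hVi s hmV⟩).1, hmV⟩
        · rintro ⟨hm, hmV⟩
          exact ⟨((typeLocus_inf_eq X hH (i s) (hifin s)).ge ⟨hm, hVi s hmV⟩).1, hmV⟩
      rw [e, e2]
      exact hQ
    haveI : IsAffine ((M.hom ⁻¹ᵁ V s : M.left.Opens) : Scheme.{u}) := hp
    haveI : IsAffine (V s : Scheme.{u}) := hVa s
    exact inferInstance
  refine ⟨M, Hu, inferInstance, hu, hum, huMono, haff, inferInstanceAs (LocallyOfFinitePresentation (O.ι ≫ X.M.hom)),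
    Groth.Reductive.FreeDiag.isMultTypeFT_bc X.isMultTypeFT_Kun O.ι, fun m => ?_,
    fun T f K' iK' j' hj' hjm hMT htype => ?_⟩
  · obtain ⟨i, -, hmi, hHi⟩ := (mem_typeLocus X hH).1 m.2
    obtain ⟨a⟩ := (hasType_Kun X hGa i hmi).bc_geom O.ι m
    obtain ⟨b⟩ := HasType.bc_geom (H := H) M.hom m hHi
    exact ⟨bcTwo (Red.geomPt m) O.ι _ rfl X.Kun ≪≫ a ≪≫ b.symm⟩
  haveI := hjm
  haveI : Mono j'.left := Over.mono_left_of_mono j'
  have htK : ∀ (x : T) (i : Idx.{u}), HasType H i (f.base x) → HasType K' i x := fun x i hi => by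
    obtain ⟨e⟩ := htype x
    obtain ⟨b⟩ := hi.bc_geom f x
    exact ⟨e ≪≫ b⟩
  have hKfin : ∀ (x : T) (k : Idx.{u}), HasType K' k x → Finite k.Λ := fun x k hk => by
    obtain ⟨i, hi⟩ := exists_hasType hH (f.base x)
    haveI := finite_of_hasType _ hi (hHf _)
    obtain ⟨b⟩ := (htK x i hi).addEquiv hk
    exact Finite.of_equiv i.Λ b.symm.toEquiv
  haveI : IsFinite K'.hom := isFinite_of_types hMT hKfin
  obtain ⟨v, hv, hvu⟩ := X.existsUnique_point f j' hMT fun Y _ _ τ i e => (hOk i).2 (by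
    haveI := finite_of_triv τ
    exact Finite.of_equiv τ.M e.symm.toEquiv)
  obtain ⟨φ, hφ₁, hφ₂⟩ := (X.same_pts_iff_exists_iso f j' v).1 hv
  obtain ⟨e⟩ := exists_grpIso X v.left (Over.w v) j' φ hφ₁ hφ₂
  have hrange : Set.range v.left ⊆ Set.range O.ι := by
    rw [Scheme.Opens.range_ι]
    rintro _ ⟨x, rfl⟩
    obtain ⟨k, y, hy⟩ := exists_mem_imgOpen X (v.left x)
    obtain ⟨i, hi⟩ := exists_hasType hH (f.base x)
    obtain ⟨a⟩ := (hasType_Kun X hGa k ⟨y, hy⟩).bc_geom v.left x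
    obtain ⟨b⟩ := htK x i hi
    have h1 : HasType K' k x :=
      ⟨bcIso (Red.geomPt x) e ≪≫ bcTwo (Red.geomPt x) v.left _ rfl X.Kun ≪≫ a⟩
    obtain ⟨c⟩ := HasType.addEquiv ⟨b⟩ h1
    refine (mem_typeLocus X hH).2 ⟨i, finite_of_hasType _ hi (hHf _), ⟨(D.σ ⟨i, k, c⟩).left y, ?_⟩, ?_⟩
    · rw [← Scheme.Hom.comp_apply, ← Over.comp_left, chart_σ]
      exact hy
    · rwa [← Scheme.Hom.comp_apply, Over.w v]
  let w := IsOpenImmersion.lift O.ι v.left hrange
  have hw : w ≫ O.ι = v.left := IsOpenImmersion.lift_fac _ _ _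
  refine ⟨w, ⟨by rw [show w ≫ M.hom = (w ≫ O.ι) ≫ X.M.hom from (Category.assoc _ _ _).symm, hw]; exact Over.w v,
    (samePoints_iff hu f j' w).2 (exists_restrict X O.ι w v.left hw _ φ hφ₁ hφ₂)⟩, ?_⟩
  rintro w' ⟨hw', hpts⟩
  obtain ⟨φ', hφ'₁, hφ'₂⟩ := (samePoints_iff hu f j' w').1 hpts
  rw [← cancel_mono O.ι, hw]
  let wO : Over.mk f ⟶ X.M := Over.homMk (w' ≫ O.ι) (by rw [Category.assoc]; exact hw')
  exact congrArg CommaMorphism.left (hvu wO ((X.same_pts_iff_exists_iso f j' wO).2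
    (exists_unrestrict X O.ι w' _ φ' hφ'₁ hφ'₂)))

end Groth.Misc15.MTType
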