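import Groth.Agent.Reductive2.MultTypeSplit
import Groth.Agent.Reductive.BaseChangeMT
import Groth.Agent.Reductive.ClopenDescent
import Groth.Agent.Misc15.MTTorus.GrpIso
import Groth.Agent.Misc15.MTTorus.Conj

/-!
The types of the geometric fibres of a group of multiplicative type.
-/

set_option autoImplicit false
set_option linter.style.haveILetI false
universe u

open CategoryTheory CategoryTheory.Limits MonoidalCategory CartesianMonoidalCategory MonObj GrpObj AlgebraicGeometry
open Groth.Reductive Groth.Reductive.MTInt Groth.Misc15.MTSub Groth.Reductive.RedRank Groth.Misc15.MTTorus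
open Groth.AlgGrp2

noncomputable section

namespace Groth.Misc15.MTType

/-- Over an algebraically closed field a group of multiplicative type is split. -/
theorem exists_split {K : Type u} [Field K] [IsAlgClosed K] {T : Over (Spec (CommRingCat.of K))} [GrpObj T]
    (hT : SGA3x.IsMultTypeFT T) :
    ∃ i : Idx.{u}, Red.IsSplitTorusWith i.Λ T := by
  obtain ⟨M, _, hM, L, _, _, hL⟩ := Groth.Reductive2.MTSplit.exists_split_field hT
  haveI : AddGroup.FG M := hM
  haveI : Monoid.FG (Multiplicative M) := Group.fg_iff_monoid_fg.1 (GroupFG.iff_add_fg.2 hM)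
  haveI : IsAffine T.left := Groth.TorusPts.isAffine_of_split T L hL
  haveI hd : IsAffine (Red.diag K M).left :=
    inferInstanceAs (IsAffine (Spec (CommRingCat.of (MonoidAlgebra K (Multiplicative M)))))
  haveI : LocallyOfFiniteType (Red.diag K M).hom := by
    show LocallyOfFiniteType (Spec.map _)
    rw [HasRingHomProperty.Spec_iff (P := @LocallyOfFiniteType)]
    exact RingHom.finiteType_algebraMap.2
      (inferInstance : Algebra.FiniteType K (MonoidAlgebra K (Multiplicative M)))
  haveI : LocallyOfFiniteType T.hom := by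
    obtain ⟨A, _, _, j, hj, ⟨eL⟩⟩ := Groth.TorusPts.exists_hopf_split T L hL
    haveI : Algebra.FiniteType L (TensorProduct K L A) :=
      Algebra.FiniteType.equiv (inferInstance : Algebra.FiniteType L (MonoidAlgebra L (Multiplicative M)))
        (eL : TensorProduct K L A ≃ₐ[L] MonoidAlgebra L (Multiplicative M)).symm
    haveI : Algebra.FiniteType K A := Algebra.FiniteType.of_finiteType_tensorProduct_of_faithfullyFlat L
    haveI : LocallyOfFiniteType (CoactBr.sp K A).hom := by
      show LocallyOfFiniteType (Spec.map _)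
      rw [HasRingHomProperty.Spec_iff (P := @LocallyOfFiniteType)]
      exact RingHom.finiteType_algebraMap.2 inferInstance
    have : IsIso j.inv.left := inferInstanceAs (IsIso ((Over.forget _).map j.inv))
    rw [← Over.w j.inv]
    infer_instance
  obtain ⟨w⟩ := Groth.Reductive2.nonempty_iso_of_bc (Red.diag K M) T (Ω := L)
    ⟨(Grp.mkIso' (diagBC K L M)).symm ≪≫ Grp.mkIso' (diagIsoOfSplit L M hL)⟩
  obtain ⟨i, ⟨a⟩⟩ := exists_idx.{u} M
  obtain ⟨d⟩ := exists_dsGrpIso (Spec (CommRingCat.of K)) a.symm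
  exact ⟨i, ⟨w.symm ≪≫ Grp.mkIso' (diagIsoDS K M) ≪≫ d⟩⟩

/-- A diagonalisable group over a field which is finite has a finite character group. -/
theorem finite_of_isFinite_DS {K : Type u} [Field K] (M : Type) [AddCommGroup M]
    (h : IsFinite (Red.DS (Spec (CommRingCat.of K)) M).hom) : Finite M := by
  haveI := h
  let Y : Over (Spec (CommRingCat.of K)) := Over.mk (𝟙 _)
  haveI : IsAffine Y.left := inferInstanceAs (IsAffine (Spec _))
  haveI : Nonempty Y.left := ⟨IsLocalRing.closedPoint K⟩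
  exact Groth.Misc15.MTFin.finite_of_triv (dsTriv M Y)

variable {S : Scheme.{u}} {H : Over S} [GrpObj H]

/-- The geometric fibre at `s` has the given type. -/
def HasType (H : Over S) [GrpObj H] (i : Idx.{u}) (s : S) : Prop :=
  Red.IsSplitTorusWith i.Λ (Red.geomFibre s H)

theorem exists_hasType (hH : SGA3x.IsMultTypeFT H) (s : S) : ∃ i, HasType H i s :=
  exists_split (Groth.Reductive.FreeDiag.isMultTypeFT_bc hH _)

theorem HasType.addEquiv {i k : Idx.{u}} {s : S} (hi : HasType H i s) (hk : HasType H k s) :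
    Nonempty (k.Λ ≃+ i.Λ) := by
  obtain ⟨a⟩ := hi
  obtain ⟨b⟩ := hk
  exact addEquiv_of_iso (a.symm ≪≫ b)

/-- The type over a geometric point lying over `s` is that of `s`. -/
theorem nonempty_addEquiv_of_geom {s : S} {i : Idx.{u}} (hi : HasType H i s) {W : Scheme.{u}} (f : W ⟶ S) (w : W)
    (hw : f.base w = s) {N : Type} [AddCommGroup N]
    (e : Grp.mk (Red.geomFibre w (Red.bc f H)) ≅ Grp.mk (Red.DS _ N)) : Nonempty (N ≃+ i.Λ) := by
  subst hw
  obtain ⟨ψ, hψ, -⟩ := exists_geomPt_hom f w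
  obtain ⟨a⟩ := hi
  obtain ⟨a'⟩ := split_bc ψ a
  exact addEquiv_of_iso (a'.symm ≪≫ bcTwo ψ (Red.geomPt (f.base w)) _ hψ H ≪≫
    (bcTwo (Red.geomPt w) f _ rfl H).symm ≪≫ e)

/-- The locus of a given type is open. -/
theorem isOpen_hasType (hH : SGA3x.IsMultTypeFT H) (i : Idx.{u}) : IsOpen {s : S | HasType H i s} := by
  obtain ⟨S', f, hflat, hsurj, hqc, hloc⟩ := hH
  haveI := hflat
  refine Groth.Reductive.FreeDiag.isOpen_of_preimage f hqc ?_
  refine isOpen_iff_forall_mem_open.mpr fun x hx => ?_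
  obtain ⟨U, hxU, M, _, hM, ⟨e⟩⟩ := hloc x
  have key : ∀ (y : (U : Scheme.{u})) (k : Idx.{u}), HasType H k ((U.ι ≫ f).base y) → Nonempty (M ≃+ k.Λ) :=
    fun y k hk => by
    obtain ⟨e'⟩ := split_bc (Red.geomPt y) e
    exact nonempty_addEquiv_of_geom hk (U.ι ≫ f) y rfl e'
  obtain ⟨a⟩ := key ⟨x, hxU⟩ i hx
  refine ⟨U, fun y hy => ?_, U.isOpen, hxU⟩
  obtain ⟨k, hk⟩ := exists_hasType ⟨S', f, hflat, hsurj, hqc, hloc⟩ ((U.ι ≫ f).base ⟨y, hy⟩)
  obtain ⟨b⟩ := key ⟨y, hy⟩ k hk
  obtain ⟨c⟩ := hk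
  obtain ⟨d⟩ := exists_dsGrpIso (Spec (CommRingCat.of (AlgebraicClosure (S.residueField ((U.ι ≫ f).base ⟨y, hy⟩)))))
    (b.symm.trans a)
  exact ⟨c ≪≫ d⟩

/-- The open locus of a given type. -/
def typeOpen (hH : SGA3x.IsMultTypeFT H) (i : Idx.{u}) : S.Opens := ⟨_, isOpen_hasType hH i⟩

end Groth.Misc15.MTType
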